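import Groth.Agent.ResProp.EF.K711.Asm
import Groth.Agent.ResProp.EF.K171.EquivSec
import Groth.Agent.ResProp.EF.K171.InvMat

/-!
# (CD2) for `H = Stab(e_1) × G'` in `G = GL_(t+1) × GL_t × G'`

`StabData φ t` = the data on `φ : O(G) → O(H)` which are used (node D5 provides them); `TorsStmt` = node (T).
-/

set_option autoImplicit false

universe u

open TensorProduct
open Groth.Agent.ResProp.EF.Grp Groth.Agent.ResProp.EF.K65 Groth.Agent.ResProp.EF.K348.HB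

noncomputable section

namespace Groth.Agent.ResProp.EF.K711

/-- Node (T): an equivariant algebra map `O(H) → B[1/f]`, `f` coinvariant, makes the cohomology of `M ⊗ B`
`f`-power torsion in degrees `1`, `2`. -/
def TorsStmt : Prop :=
  ∀ (k : Type u) [CommRing k] (H : Gp k) (B : Type u) [CommRing B] [Algebra k B]
    (cB : HopfRep.Comod k H.O B) (ρ : B →ₐ[k] B ⊗[k] H.O) (_ : ∀ b, cB.coact b = ρ b)
    (f : B) (_ : ρ f = f ⊗ₜ 1) (B' : Type u) [CommRing B'] [Algebra k B'] [Algebra B B']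
    [IsScalarTower k B B'] [IsLocalization.Away f B'] (ρ' : B' →ₐ[k] B' ⊗[k] H.O)
    (_ : ∀ b, ρ' (algebraMap B B' b) =
      Algebra.TensorProduct.map (IsScalarTower.toAlgHom k B B') (AlgHom.id k H.O) (ρ b))
    (j : H.O →ₐ[k] B')
    (_ : ∀ a, ρ' (j a) = Algebra.TensorProduct.map j (AlgHom.id k H.O) (Coalgebra.comul (R := k) a)),
    TorsFor H B cB f

variable {k : Type u} [CommRing k] {G H : Gp k}

/-- The data of `H = Stab(e_1) × G' → G = GL_(t+1) × GL_t × G'`, `(h, g') ↦ (h, h', g')`, in coordinates. -/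
structure StabData (φ : G.O →ₐc[k] H.O) (t : ℕ) where
  G0 : Type u
  [crG0 : CommRing G0]
  [baG0 : Bialgebra k G0]
  ga0 : G0 →ₐ[k] H.O
  hga0 : ∀ a, Coalgebra.comul (R := k) (ga0 a) =
    Algebra.TensorProduct.map ga0 ga0 (Coalgebra.comul (R := k) a)
  h : Matrix (Fin (t + 1)) (Fin (t + 1)) H.O
  hcol : ∀ i, h i 0 = if i = 0 then 1 else 0
  hcomul : ∀ i j, Coalgebra.comul (R := k) (h i j) = ∑ l, h i l ⊗ₜ[k] h l j
  lift : ∀ (R : Type u) [CommRing R] [Algebra k R] (M : Matrix (Fin (t + 1)) (Fin (t + 1)) R)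
    (γ : G0 →ₐ[k] R), (∀ i, M i 0 = if i = 0 then 1 else 0) → IsUnit M.det →
      ∃ F : H.O →ₐ[k] R, (∀ i j, F (h i j) = M i j) ∧ F.comp ga0 = γ
  ext : ∀ (R : Type u) [CommRing R] [Algebra k R] (F F' : H.O →ₐ[k] R),
    (∀ i j, F (h i j) = F' (h i j)) → F.comp ga0 = F'.comp ga0 → F = F'
  g1 : Matrix (Fin (t + 1)) (Fin (t + 1)) G.O
  g2 : Matrix (Fin t) (Fin t) G.O
  ga : G0 →ₐ[k] G.O
  hg1 : ∀ i j, rho φ (g1 i j) = ∑ l, g1 i l ⊗ₜ[k] h l j
  hg2 : ∀ i j, rho φ (g2 i j) = ∑ l, g2 i l ⊗ₜ[k] h l.succ j.succ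
  hga : ∀ a, rho φ (ga a) = Algebra.TensorProduct.map ga ga0 (Coalgebra.comul (R := k) a)
  hd1 : IsUnit g1.det
  hd2 : IsUnit g2.det

attribute [instance] StabData.crG0 StabData.baG0

theorem cd2_of_stab (hTS : TorsStmt.{u}) (φ : G.O →ₐc[k] H.O) (p : ℕ) (hp : p.Prime)
    (hk : (Ideal.span {(p : k)}).IsMaximal) (t : ℕ) (D : StabData φ t) : CD2 p G H φ := by
  have hm : ∀ i, mnr (K171.InvMat.XT D.g1 D.g2) i = D.g2.det * D.g1⁻¹.det * D.g1 i 0 :=
    fun i => K171.InvMat.dl_XT D.g1 D.g2 D.hd1 i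
  have hu1 : IsUnit D.g1⁻¹.det := Matrix.isUnit_nonsing_inv_det_iff.2 D.hd1
  have hX : ∀ i j, rho φ (K171.InvMat.XT D.g1 D.g2 i j) = K171.InvMat.XT D.g1 D.g2 i j ⊗ₜ 1 :=
    fun i j => K171.InvMat.rho_XT (rho φ) D.h D.g1 D.g2 D.hcol D.hg1 D.hg2 D.hd1 i j
  refine cd2_of_matrix φ p hp hk t (K171.InvMat.XT D.g1 D.g2) hX ?_ ?_
  · have h1 := K171.EquivSec.span_col (0 : Fin (t + 1)) D.g1 D.hd1
    rw [Ideal.eq_top_iff_one] at h1 ⊢
    have h2 : Ideal.span (Set.range fun i => D.g1 i 0) ≤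
        Ideal.span (Set.range (mnr (K171.InvMat.XT D.g1 D.g2))) := by
      rw [Ideal.span_le]
      rintro _ ⟨i, rfl⟩
      obtain ⟨u, hu⟩ := D.hd2.mul hu1
      have h3 : D.g1 i 0 = (↑u⁻¹ : G.O) * mnr (K171.InvMat.XT D.g1 D.g2) i := by
        rw [hm, ← hu, ← mul_assoc, Units.inv_mul, one_mul]
      change D.g1 i 0 ∈ _
      rw [h3]
      exact Ideal.mul_mem_left _ _ (Ideal.subset_span ⟨i, rfl⟩)
    exact h2 h1
  · intro i
    set f : G.O := mnr (K171.InvMat.XT D.g1 D.g2) i with hf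
    -- `f` is coinvariant
    have hfc : rho φ f = f ⊗ₜ[k] (1 : H.O) := by
      have e1 : (K171.InvMat.XT D.g1 D.g2).map (rho φ) = (K171.InvMat.XT D.g1 D.g2).map
          (Algebra.TensorProduct.includeLeft : G.O →ₐ[k] G.O ⊗[k] H.O) := by
        ext a b
        exact hX a b
      have e2 := mnr_map ((rho φ : G.O →ₐ[k] G.O ⊗[k] H.O) : G.O →+* G.O ⊗[k] H.O)
        (K171.InvMat.XT D.g1 D.g2) i
      have e3 := mnr_map ((Algebra.TensorProduct.includeLeft : G.O →ₐ[k] G.O ⊗[k] H.O) :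
        G.O →+* G.O ⊗[k] H.O) (K171.InvMat.XT D.g1 D.g2) i
      change mnr ((K171.InvMat.XT D.g1 D.g2).map (rho φ)) i = rho φ f at e2
      change mnr ((K171.InvMat.XT D.g1 D.g2).map
        (Algebra.TensorProduct.includeLeft : G.O →ₐ[k] G.O ⊗[k] H.O)) i = f ⊗ₜ[k] (1 : H.O) at e3
      rw [← e2, e1, e3]
    have hxi : IsUnit (algebraMap G.O (Localization.Away f) (D.g1 i 0)) := by
      have h1 : IsUnit (algebraMap G.O (Localization.Away f) f) :=
        IsLocalization.Away.algebraMap_isUnit f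
      have h2 : f = D.g2.det * D.g1⁻¹.det * D.g1 i 0 := hm i
      have h3 := congrArg (algebraMap G.O (Localization.Away f)) h2
      rw [map_mul] at h3
      rw [h3] at h1
      exact isUnit_of_mul_isUnit_right h1
    haveI : IsLocalization.Away ((Matrix.of fun _ _ => f : Matrix (Fin 1) (Fin 1) G.O) 0 0)
        (Localization.Away f) := inferInstanceAs (IsLocalization.Away f (Localization.Away f))
    obtain ⟨ρ', hρ'⟩ := K171.EquivSec.exists_rho' (0 : Fin 1) (rho φ)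
      (Matrix.of fun _ _ => f : Matrix (Fin 1) (Fin 1) G.O) (B' := Localization.Away f) 0 hfc
    obtain ⟨j, -, -, hj⟩ := K171.EquivSec.exists_j (0 : Fin (t + 1)) D.ga0 D.h (rho φ) D.g1 D.ga
      D.hcol D.hcomul D.hga0 D.hg1 D.hd1 D.hga i hxi
      (fun M γ h1 h2 => D.lift (Localization.Away f) M γ h1 h2)
      (fun F F' h1 h2 => D.ext _ F F' h1 h2) ρ' hρ'
    exact hTS k H G.O ((reg G).res φ).co (rho φ) (coact_eq φ) f hfc (Localization.Away f) ρ' hρ' j hj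

end Groth.Agent.ResProp.EF.K711
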