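import Groth.Agent.ResProp.EF.K711.Stab
import Groth.Agent.ResProp.EF.K82.Integral

/-!
# Node (T), and (CD2) from `StabData`
-/

set_option autoImplicit false

universe u

open TensorProduct
open Groth.Agent.ResProp.EF.Grp Groth.Agent.ResProp.EF.K65

noncomputable section

namespace Groth.Agent.ResProp.EF.K711

theorem torsStmt : TorsStmt.{u} := by
  intro k _ H B _ _ cB ρ hρ f hf B' _ _ _ _ _ ρ' hρ' j hj M
  have hone : cB.coact 1 = 1 := (hρ 1).trans (map_one ρ)
  have hmul : ∀ x y, cB.coact (x * y) = cB.coact x * cB.coact y := fun x y => by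
    rw [hρ, hρ, hρ, map_mul]
  have hf' : cB.coact f = f ⊗ₜ[k] (1 : H.O) := (hρ f).trans hf
  have hj' : ∀ ρ'' : B' →ₐ[k] B' ⊗[k] H.O, (∀ b, ρ'' (algebraMap B B' b) =
      (IsScalarTower.toAlgHom k B B').toLinearMap.rTensor H.O (cB.coact b)) →
      ∀ x, ρ'' (j x) = j.toLinearMap.rTensor H.O (CoalgebraStruct.comul (R := k) x) := by
    intro ρ'' h x
    have e : ρ'' = ρ' := by
      have h1 : (ρ'' : B' →+* B' ⊗[k] H.O) = (ρ' : B' →+* B' ⊗[k] H.O) := by
        refine IsLocalization.ringHom_ext (Submonoid.powers f) (RingHom.ext fun b => ?_)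
        change ρ'' (algebraMap B B' b) = ρ' (algebraMap B B' b)
        rw [h, hρ', hρ]
        rfl
      exact AlgHom.ext fun b => RingHom.congr_fun h1 b
    rw [e, hj]
    rfl
  constructor
  · intro x hx
    exact K82.torsion M.co cB hone hmul f hf' B' j.toLinearMap (map_one j) hj' 0 x hx
  · intro x hx
    exact K82.torsion M.co cB hone hmul f hf' B' j.toLinearMap (map_one j) hj' 1 x hx

variable {k : Type u} [CommRing k] {G H : Gp k}

theorem cd2_of_stabData (φ : G.O →ₐc[k] H.O) (p : ℕ) (hp : p.Prime)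
    (hk : (Ideal.span {(p : k)}).IsMaximal) (t : ℕ) (D : StabData φ t) : CD2 p G H φ :=
  cd2_of_stab torsStmt φ p hp hk t D

end Groth.Agent.ResProp.EF.K711
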