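import Groth.Agent.ResProp.EF.K711.CdTwo
import Groth.Agent.ResProp.EF.K471.Kill

/-!
# (CD2) from a coinvariant matrix
-/

set_option autoImplicit false

universe u

open TensorProduct Groth.Agent.Pi1C.CechAll
open Groth.Agent.ResProp.EF.Grp Groth.Agent.ResProp.EF.K65 Groth.Agent.ResProp.EF.K348.HB

noncomputable section

namespace Groth.Agent.ResProp.EF.K711

variable {k : Type u} [CommRing k]

/-- Up to powers of `f ∈ B` the cohomology of `M ⊗ B` vanishes in degrees `1` and `2`, for all `M`. -/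
def TorsFor (H : Gp k) (B : Type u) [CommRing B] [Algebra k B] (cB : HopfRep.Comod k H.O B) (f : B) :
    Prop :=
  ∀ M : GMod H,
    (∀ x : (M.V ⊗[k] B) ⊗[k] H.O, e1 (ComodTens.Comod.tensor M.co cB) x = 0 →
      ∃ (n : ℕ) (y : M.V ⊗[k] B), e0 (ComodTens.Comod.tensor M.co cB) y =
        ((LinearMap.mulLeft k (f ^ n)).lTensor M.V).rTensor H.O x) ∧
    (∀ x : ((M.V ⊗[k] B) ⊗[k] H.O) ⊗[k] H.O, e2 (ComodTens.Comod.tensor M.co cB) x = 0 →
      ∃ (n : ℕ) (y : (M.V ⊗[k] B) ⊗[k] H.O), e1 (ComodTens.Comod.tensor M.co cB) y =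
        (((LinearMap.mulLeft k (f ^ n)).lTensor M.V).rTensor H.O).rTensor H.O x)

section Act

variable (M : Type u) [AddCommGroup M] [Module k M] (B : Type u) [CommRing B] [Algebra k B]

/-- `B` acts on `M ⊗ B` -/
def actB : B →+* Module.End k (M ⊗[k] B) where
  toFun b := (LinearMap.mulLeft k b).lTensor M
  map_one' := by
    ext m x
    simp
  map_zero' := by
    ext m x
    simp
  map_add' a b := by
    ext m x
    simp [add_mul, TensorProduct.tmul_add]
  map_mul' a b := by
    ext m x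
    simp

/-- `B/p` acts on `M ⊗ B` if `p M = 0` -/
def actP (p : ℕ) (hM : ∀ m : M, (p : k) • m = 0) :
    (B ⧸ Ideal.span {(p : B)}) →+* Module.End k (M ⊗[k] B) :=
  Ideal.Quotient.lift _ (actB M B) (by
    intro a ha
    obtain ⟨b, rfl⟩ := Ideal.mem_span_singleton'.1 ha
    rw [map_mul]
    have : actB (k := k) M B (p : B) = 0 := by
      ext m x
      change m ⊗ₜ[k] ((p : B) * x) = 0
      have e : (p : B) * x = (p : k) • x := by
        rw [Algebra.smul_def, map_natCast]
      rw [e, ← TensorProduct.smul_tmul, hM, TensorProduct.zero_tmul]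
    rw [this, mul_zero])

theorem actP_mk (p : ℕ) (hM : ∀ m : M, (p : k) • m = 0) (b : B) :
    actP M B p hM (Ideal.Quotient.mk _ b) = (LinearMap.mulLeft k b).lTensor M := rfl

end Act

section Main

variable {G H : Gp k} (φ : G.O →ₐc[k] H.O)

/-- the coaction of `H` on `O(G)` -/
def rho : G.O →ₐ[k] G.O ⊗[k] H.O :=
  (Algebra.TensorProduct.map (AlgHom.id k G.O) (φ : G.O →ₐ[k] H.O)).comp (Bialgebra.comulAlgHom k G.O)

theorem coact_eq (x : G.O) : ((reg G).res φ).co.coact x = rho φ x := rfl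

/-- multiplication with a coinvariant element is a morphism -/
theorem mulLeft_hom {b : G.O} (hb : rho φ b = b ⊗ₜ 1) (x : G.O) :
    ((reg G).res φ).co.coact (LinearMap.mulLeft k b x) =
      (LinearMap.mulLeft k b).rTensor H.O (((reg G).res φ).co.coact x) := by
  rw [coact_eq, coact_eq, LinearMap.mulLeft_apply, map_mul, hb]
  generalize rho φ x = w
  induction w using TensorProduct.induction_on with
  | zero => simp
  | add x y hx hy => rw [mul_add, hx, hy, map_add]
  | tmul a b => simp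

theorem coact_actB (p : ℕ) (M : GMod H) (hM : ∀ m : M.V, (p : k) • m = 0) {b : G.O}
    (hb : rho φ b = b ⊗ₜ 1) (v : M.V ⊗[k] G.O) :
    (M.tens ((reg G).res φ)).co.coact ((LinearMap.mulLeft k b).lTensor M.V v) =
      ((LinearMap.mulLeft k b).lTensor M.V).rTensor H.O ((M.tens ((reg G).res φ)).co.coact v) :=
  K471.lTensor_hom p M hM ((reg G).res φ) ((reg G).res φ) (LinearMap.mulLeft k b)
    (fun x => ⟨0, by
      rw [smul_zero, sub_eq_zero]
      exact mulLeft_hom φ hb x⟩) v

variable (p : ℕ) [Fact p.Prime] (F : Type u) [Field F] [CharP F p]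
  (fF : F →+* (G.O ⧸ Ideal.span {(p : G.O)}))
  (t : ℕ) (X : Matrix (Fin (t + 1)) (Fin t) G.O)

/-- `F[X_ij] → O(G)/p` -/
def alpha : MvPolynomial (Fin (t + 1) × Fin t) F →+* (G.O ⧸ Ideal.span {(p : G.O)}) :=
  MvPolynomial.eval₂Hom fF fun ij => Ideal.Quotient.mk _ (X ij.1 ij.2)

omit [Fact p.Prime] [CharP F p] in
theorem alpha_mnr (i : Fin (t + 1)) :
    alpha p F fF t X (mnr (gen F t) i) = Ideal.Quotient.mk _ (mnr X i) := by
  rw [← mnr_map (alpha p F fF t X) (gen F t) i, ← mnr_map (Ideal.Quotient.mk _) X i]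
  congr 1
  ext a b
  simp [gen, alpha]

omit [Fact p.Prime] [CharP F p] in
/-- every value of `alpha` is the class of a coinvariant element -/
theorem alpha_coinv (hF : ∀ x : F, ∃ b : G.O, rho φ b = b ⊗ₜ 1 ∧ fF x = Ideal.Quotient.mk _ b)
    (hX : ∀ i j, rho φ (X i j) = X i j ⊗ₜ 1) (s : MvPolynomial (Fin (t + 1) × Fin t) F) :
    ∃ b : G.O, rho φ b = b ⊗ₜ 1 ∧ alpha p F fF t X s = Ideal.Quotient.mk _ b := by
  induction s using MvPolynomial.induction_on with
  | C x =>
    obtain ⟨b, hb, h⟩ := hF x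
    refine ⟨b, hb, ?_⟩
    rw [← h]
    simp [alpha]
  | add a b ha hb =>
    obtain ⟨a', ha, ha'⟩ := ha
    obtain ⟨b', hb, hb'⟩ := hb
    refine ⟨a' + b', ?_, ?_⟩
    · rw [map_add, ha, hb, TensorProduct.add_tmul]
    · rw [map_add, ha', hb', map_add]
  | mul_X a ij ha =>
    obtain ⟨a', ha, ha'⟩ := ha
    refine ⟨a' * X ij.1 ij.2, ?_, ?_⟩
    · rw [map_mul, ha, hX, Algebra.TensorProduct.tmul_mul_tmul, mul_one]
    · rw [map_mul, ha', map_mul]
      simp [alpha]

theorem cob_of_matrix (M : GMod H) (hM : ∀ m : M.V, (p : k) • m = 0)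
    (hF : ∀ x : F, ∃ b : G.O, rho φ b = b ⊗ₜ 1 ∧ fF x = Ideal.Quotient.mk _ b)
    (hX : ∀ i j, rho φ (X i j) = X i j ⊗ₜ 1)
    (hU : Ideal.span (Set.range (mnr X)) = ⊤)
    (hT : ∀ i, TorsFor H G.O ((reg G).res φ).co (mnr X i))
    (z : ((M.V ⊗[k] G.O) ⊗[k] H.O) ⊗[k] H.O)
    (hz : e2 (M.tens ((reg G).res φ)).co z = 0) :
    ∃ y : (M.V ⊗[k] G.O) ⊗[k] H.O, e1 (M.tens ((reg G).res φ)).co y = z := by
  let B' := G.O ⧸ Ideal.span {(p : G.O)}
  let V := M.V ⊗[k] G.O
  let S := MvPolynomial (Fin (t + 1) × Fin t) F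
  let α : S →+* B' := alpha p F fF t X
  let β : B' →+* Module.End k V := actP M.V G.O p hM
  letI iA : Algebra S B' := α.toAlgebra
  letI iB : Module B' V := Module.compHom V β
  letI iS : Module S V := Module.compHom V (β.comp α)
  haveI : IsScalarTower S B' V := ⟨fun s b v => by
    change β (α s * b) v = β (α s) (β b v)
    rw [map_mul]
    rfl⟩
  haveI : SMulCommClass k B' V := ⟨fun r b v => by
    change r • β b v = β b (r • v)
    rw [map_smul]⟩
  haveI : SMulCommClass k S V := ⟨fun r s v => by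
    change r • β (α s) v = β (α s) (r • v)
    rw [map_smul]⟩
  have key1 : ∀ (i : Fin (t + 1)) (n : ℕ) (v : V), (mnr (gen F t) i) ^ n • v =
      (LinearMap.mulLeft k (mnr X i ^ n)).lTensor M.V v := by
    intro i n v
    change β (α (mnr (gen F t) i ^ n)) v = _
    rw [map_pow, show α (mnr (gen F t) i) = Ideal.Quotient.mk _ (mnr X i) from alpha_mnr p F fF t X i,
      ← map_pow]
    rfl
  have key2 : ∀ (i : Fin (t + 1)) (n : ℕ) (v : V ⊗[k] H.O), (mnr (gen F t) i) ^ n • v =
      ((LinearMap.mulLeft k (mnr X i ^ n)).lTensor M.V).rTensor H.O v := by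
    intro i n v
    induction v using TensorProduct.induction_on with
    | zero => rw [smul_zero, map_zero]
    | add x y hx hy => rw [smul_add, hx, hy, map_add]
    | tmul v a => rw [TensorProduct.smul_tmul', key1, LinearMap.rTensor_tmul]
  have key3 : ∀ (i : Fin (t + 1)) (n : ℕ) (v : (V ⊗[k] H.O) ⊗[k] H.O), (mnr (gen F t) i) ^ n • v =
      (((LinearMap.mulLeft k (mnr X i ^ n)).lTensor M.V).rTensor H.O).rTensor H.O v := by
    intro i n v
    induction v using TensorProduct.induction_on with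
    | zero => rw [smul_zero, map_zero]
    | add x y hx hy => rw [smul_add, hx, hy, map_add]
    | tmul v a => rw [TensorProduct.smul_tmul', key2, LinearMap.rTensor_tmul]
  have hsm : ∀ (b : G.O) (w : V ⊗[k] H.O) (s : S), α s = Ideal.Quotient.mk _ b →
      s • w = ((LinearMap.mulLeft k b).lTensor M.V).rTensor H.O w := by
    intro b w s hs
    induction w using TensorProduct.induction_on with
    | zero => rw [smul_zero, map_zero]
    | add x y hx hy => rw [smul_add, hx, hy, map_add]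
    | tmul v a =>
      rw [TensorProduct.smul_tmul', LinearMap.rTensor_tmul]
      congr 1
      change β (α s) v = _
      rw [hs]
      rfl
  refine h2_zero (S := S) (B := B') (ι := Fin (t + 1)) (M.tens ((reg G).res φ)).co (mnr (gen F t)) ?_ ?_ ?_ ?_ ?_ z hz
  · intro s v
    obtain ⟨b, hb, hb'⟩ := alpha_coinv φ p F fF t X hF hX s
    rw [hsm b _ s hb']
    refine Eq.trans ?_ (coact_actB φ p M hM hb v)
    congr 1
    change β (α s) v = _
    rw [show α s = Ideal.Quotient.mk _ b from hb']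
    rfl
  · have h1 : (fun i => algebraMap S B' (mnr (gen F t) i)) = fun i => Ideal.Quotient.mk _ (mnr X i) :=
      funext fun i => alpha_mnr p F fF t X i
    rw [h1]
    have h2 := congrArg (Ideal.map (Ideal.Quotient.mk (Ideal.span {(p : G.O)}))) hU
    rw [Ideal.map_span, Ideal.map_top, ← Set.range_comp] at h2
    exact h2
  · intro K _ _ x hx
    exact K348.ECThree.exact_three F p t K x hx
  · intro i x hx
    obtain ⟨n, y, hy⟩ := (hT i M).1 x hx
    exact ⟨n, y, hy.trans (key2 i n x).symm⟩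
  · intro i x hx
    obtain ⟨n, y, hy⟩ := (hT i M).2 x hx
    exact ⟨n, y, hy.trans (key3 i n x).symm⟩

end Main

section CD2

variable {G H : Gp k} (φ : G.O →ₐc[k] H.O) (p : ℕ)

theorem isMaximal_of_isLb [h : IsLb p k] : (Ideal.span {(p : k)}).IsMaximal := by
  rw [Ideal.isMaximal_iff]
  refine ⟨fun h1 => h.not_unit (isUnit_of_dvd_one (Ideal.mem_span_singleton.1 h1)), ?_⟩
  intro J x hJ hx hxJ
  have hu : IsUnit x := h.unit_of x fun hd => hx (Ideal.mem_span_singleton.2 hd)
  exact (Ideal.eq_top_iff_one _).1 (Ideal.eq_top_of_isUnit_mem _ hxJ hu)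

/-- (CD2) from a coinvariant `(t+1) × t` matrix whose maximal minors generate the unit ideal and kill. -/
theorem cd2_of_matrix (hp : p.Prime) (hk : (Ideal.span {(p : k)}).IsMaximal)
    (t : ℕ) (X : Matrix (Fin (t + 1)) (Fin t) G.O)
    (hX : ∀ i j, rho φ (X i j) = X i j ⊗ₜ 1)
    (hU : Ideal.span (Set.range (mnr X)) = ⊤)
    (hT : ∀ i, TorsFor H G.O ((reg G).res φ).co (mnr X i)) : CD2 p G H φ := by
  intro M hM c hc
  haveI : Fact p.Prime := ⟨hp⟩
  letI : Field (k ⧸ Ideal.span {(p : k)}) := Ideal.Quotient.field _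
  haveI : CharP (k ⧸ Ideal.span {(p : k)}) p := by
    rw [CharP.charP_iff_prime_eq_zero hp]
    have : ((p : k ⧸ Ideal.span {(p : k)})) = Ideal.Quotient.mk _ (p : k) := by rw [map_natCast]
    rw [this, Ideal.Quotient.eq_zero_iff_mem]
    exact Ideal.mem_span_singleton_self _
  let fF : (k ⧸ Ideal.span {(p : k)}) →+* (G.O ⧸ Ideal.span {(p : G.O)}) :=
    Ideal.Quotient.lift _ ((Ideal.Quotient.mk _).comp (algebraMap k G.O)) (by
      intro a ha
      obtain ⟨b, rfl⟩ := Ideal.mem_span_singleton'.1 ha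
      rw [RingHom.comp_apply, map_mul, map_natCast, map_mul,
        Ideal.Quotient.eq_zero_iff_mem.2 (Ideal.mem_span_singleton_self (p : G.O)), mul_zero])
  have hF : ∀ x : k ⧸ Ideal.span {(p : k)}, ∃ b : G.O, rho φ b = b ⊗ₜ 1 ∧
      fF x = Ideal.Quotient.mk _ b := by
    intro x
    obtain ⟨x, rfl⟩ := Ideal.Quotient.mk_surjective x
    refine ⟨algebraMap k G.O x, ?_, rfl⟩
    rw [AlgHom.commutes, Algebra.TensorProduct.algebraMap_apply]
  have h1 : ∀ v : M.V, (M.tens ((reg G).res φ)).co.coact (tmulR M ((reg G).res φ) (1 : G.O) v) =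
      (tmulR M ((reg G).res φ) (1 : G.O)).rTensor H.O (M.co.coact v) := by
    intro v
    change (M.tens ((reg G).res φ)).co.coact (v ⊗ₜ (1 : G.O)) = _
    refine (K471.tens_coact M ((reg G).res φ) v (1 : G.O)).trans ?_
    rw [show ((reg G).res φ).co.coact (1 : G.O) = (1 : G.O) ⊗ₜ[k] (1 : H.O) from
      (coact_eq φ 1).trans (map_one (rho φ))]
    generalize M.co.coact v = w
    induction w using TensorProduct.induction_on with
    | zero => simp only [TensorProduct.zero_tmul, map_zero]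
    | add x y hx hy => rw [TensorProduct.add_tmul, map_add, hx, hy, map_add]
    | tmul m a =>
      refine (K471.mm_tmul m a (1 : G.O) (1 : H.O)).trans ?_
      rw [mul_one]
      rfl
  have h2 := K471.cmap_d M (M.tens ((reg G).res φ)) (tmulR M ((reg G).res φ) (1 : G.O)) h1 2 c
  rw [hc, map_zero] at h2
  exact cob_of_matrix φ p (k ⧸ Ideal.span {(p : k)}) fF t X M hM hF hX hU hT _ h2

end CD2

end Groth.Agent.ResProp.EF.K711
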