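import Groth.Agent.Pi1C.CechAll

/-!
# The Čech chase for `H²`

`g : ι → S`, `C0 → C1 → C2 → C3` a complex of `S`-modules whose `H¹`, `H²` are `g i`-power torsion for
every `i`, such that the extended Čech complexes of `C0`, `C1`, `C2` are exact (in the degrees needed)
and the extended Čech complex of `ker (C0 → C1)` is exact in degree `3`.  Then `H² = 0`.
-/

set_option autoImplicit false

open Groth.Agent.FormalA.LocSub Groth.Agent.Pi1C.CechAll

namespace Groth.Agent.ResProp.EF.K711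

section Unit

variable {S : Type*} [CommRing S] {ι : Type*} [Finite ι] (g : ι → S)
  {Q : Type*} [AddCommGroup Q] [Module S Q]

omit [Finite ι] in
/-- Restriction to `cons k s`: surjective up to powers of `g k`. -/
theorem exists_res_cons {n : ℕ} (k : ι) (s : Fin n → ι)
    (x : LocalizedModule (P g (Fin.cons k s : Fin (n + 1) → ι)) Q) :
    ∃ (m : ℕ) (r : LocalizedModule (P g s) Q), res (le_cons g k s) r = g k ^ m • x := by
  obtain ⟨c, ⟨t, ht⟩, rfl⟩ := exists_eq_mk x
  have ht' := ht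
  rw [P_cons] at ht'
  obtain ⟨a, ⟨m, hm⟩, b, hb, hab⟩ := Submonoid.mem_sup.1 ht'
  refine ⟨m, LocalizedModule.mk c ⟨b, hb⟩, ?_⟩
  rw [res_mk]
  simp only at hm
  have hmul : g k ^ m • (LocalizedModule.mk c ⟨t, ht⟩ : LocalizedModule (P g (Fin.cons k s : Fin (n + 1) → ι)) Q) =
      LocalizedModule.mk (g k ^ m • c) ⟨t, ht⟩ := LocalizedModule.smul'_mk _ _ _
  rw [hmul, LocalizedModule.mk_eq]
  refine ⟨1, ?_⟩
  simp only [one_smul, Submonoid.mk_smul]
  rw [smul_smul, ← hab, ← hm, mul_comm]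

omit [Finite ι] in
/-- Restriction to `cons k s`: injective up to powers of `g k`. -/
theorem exists_res_cons_zero {n : ℕ} (k : ι) (s : Fin n → ι) (r : LocalizedModule (P g s) Q)
    (hr : res (le_cons g k s) r = 0) : ∃ m : ℕ, g k ^ m • r = 0 := by
  obtain ⟨c, ⟨t, ht⟩, rfl⟩ := exists_eq_mk r
  rw [res_mk] at hr
  obtain ⟨u, hu, h⟩ := (mk_eq_zero_iff _ _).1 hr
  rw [P_cons] at hu
  obtain ⟨a, ⟨m, hm⟩, b, hb, hab⟩ := Submonoid.mem_sup.1 hu
  refine ⟨m, ?_⟩
  simp only at hm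
  rw [LocalizedModule.smul'_mk, mk_eq_zero_iff]
  refine ⟨b, hb, ?_⟩
  rw [smul_smul, hm, mul_comm, hab, h]

/-- The contraction with denominators. -/
theorem exists_pow_smul_eq_d (k : ι) (n : ℕ) (x : EC g Q (n + 1)) (hx : d g Q (n + 1) x = 0) :
    ∃ (m : ℕ) (y : EC g Q n), d g Q n y = g k ^ m • x := by
  classical
  have := Fintype.ofFinite ι
  choose m₀ r₀ h₀ using fun t : Fin n → ι => exists_res_cons g k t (x (Fin.cons k t))
  -- common exponent
  obtain ⟨M, hM⟩ : ∃ M : ℕ, ∀ t, m₀ t ≤ M :=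
    ⟨Finset.univ.sup m₀, fun t => Finset.le_sup (Finset.mem_univ t)⟩
  let r : EC g Q n := fun t => g k ^ (M - m₀ t) • r₀ t
  have hr : ∀ t, res (le_cons g k t) (r t) = g k ^ M • x (Fin.cons k t) := fun t => by
    change res (le_cons g k t) (g k ^ (M - m₀ t) • r₀ t) = _
    rw [map_smul, h₀, smul_smul, ← pow_add, Nat.sub_add_cancel (hM t)]
  -- the difference is killed after restriction to `cons k s`
  have key : ∀ s : Fin (n + 1) → ι, res (le_cons g k s) (d g Q n r s - g k ^ M • x s) = 0 := by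
    intro s
    have h1 := congr_fun hx (Fin.cons k s : Fin (n + 2) → ι)
    rw [d_apply, Fin.sum_univ_succ] at h1
    have e0 : res (P_comp_le g (Fin.cons k s : Fin (n + 2) → ι) (0 : Fin (n + 2)).succAbove)
        (x ((Fin.cons k s : Fin (n + 2) → ι) ∘ (0 : Fin (n + 2)).succAbove)) =
        res (le_cons g k s) (x s) := res_congr g Q x (cons_comp_zero k s) _ _
    rw [e0, Fin.val_zero, pow_zero, one_smul] at h1
    have h2 : g k ^ M • (∑ j : Fin (n + 1), ((-1 : S) ^ ((j.succ : Fin (n + 2)) : ℕ)) •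
        res (P_comp_le g (Fin.cons k s : Fin (n + 2) → ι) j.succ.succAbove)
          (x ((Fin.cons k s : Fin (n + 2) → ι) ∘ j.succ.succAbove))) =
        - (res (le_cons g k s) (d g Q n r s)) := by
      rw [d_apply, map_sum, ← Finset.sum_neg_distrib, Finset.smul_sum]
      refine Finset.sum_congr rfl fun j _ => ?_
      have hle : P g (Fin.cons k (s ∘ j.succAbove) : Fin (n + 1) → ι) ≤
          P g (Fin.cons k s : Fin (n + 2) → ι) := by
        rw [P_cons, P_cons]
        exact sup_le_sup_left (P_comp_le g s j.succAbove) _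
      rw [res_congr g Q x (cons_comp_succ k s j) _ hle, map_smul, res_res]
      have h3 : res ((P_comp_le g s j.succAbove).trans (le_cons g k s)) (r (s ∘ j.succAbove)) =
          g k ^ M • res hle (x (Fin.cons k (s ∘ j.succAbove))) := by
        rw [← map_smul, ← hr, res_res]
      rw [h3, smul_comm, Fin.val_succ, pow_succ, mul_neg_one, neg_smul]
    have h3 := congrArg (fun z => g k ^ M • z) h1
    simp only [smul_add] at h3
    rw [h2, Pi.zero_apply, smul_zero] at h3
    rw [map_sub, map_smul]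
    rw [← sub_eq_add_neg] at h3
    rw [← neg_eq_zero, neg_sub, h3]
  choose m₁ h₁ using fun s => exists_res_cons_zero g k s _ (key s)
  obtain ⟨L, hL⟩ : ∃ L : ℕ, ∀ t, m₁ t ≤ L :=
    ⟨Finset.univ.sup m₁, fun t => Finset.le_sup (Finset.mem_univ t)⟩
  refine ⟨L + M, g k ^ L • r, ?_⟩
  rw [map_smul]
  funext s
  have h4 : g k ^ L • (d g Q n r s - g k ^ M • x s) = 0 := by
    rw [← Nat.sub_add_cancel (hL s), pow_add, mul_smul, h₁, smul_zero]
  rw [smul_sub, sub_eq_zero, smul_smul, ← pow_add] at h4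
  exact h4

omit [Finite ι] in
theorem mk_sum {T : Submonoid S} {κ : Type*} (s : Finset κ) (f : κ → Q) (t : T) :
    (LocalizedModule.mk (∑ i ∈ s, f i) t : LocalizedModule T Q) =
      ∑ i ∈ s, LocalizedModule.mk (f i) t := by
  classical
  induction s using Finset.induction_on with
  | empty => simp only [Finset.sum_empty, LocalizedModule.zero_mk]
  | insert a s ha ih =>
    rw [Finset.sum_insert ha, Finset.sum_insert ha, ← ih, LocalizedModule.mk_add_mk,
      LocalizedModule.mk_eq]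
    refine ⟨1, ?_⟩
    simp only [one_smul, smul_add, Submonoid.smul_def, mul_smul]

variable {B : Type*} [CommRing B] [Algebra S B] [Module B Q] [IsScalarTower S B Q]

/-- Multiplication by an element of `B`, as an `S`-linear map. -/
def mulB (b : B) : Q →ₗ[S] Q := (LinearMap.lsmul B Q b).restrictScalars S

/-- Exactness if the `g i` generate the unit ideal of a ring `B` acting on `Q`. -/
theorem exact_of_unit (hB : Ideal.span (Set.range fun i => algebraMap S B (g i)) = ⊤) (n : ℕ)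
    (x : EC g Q (n + 1)) (hx : d g Q (n + 1) x = 0) : ∃ y, d g Q n y = x := by
  classical
  have := Fintype.ofFinite ι
  choose m₀ y₀ h₀ using fun k => exists_pow_smul_eq_d (Q := Q) g k n x hx
  obtain ⟨M, hM⟩ : ∃ M : ℕ, ∀ t, m₀ t ≤ M :=
    ⟨Finset.univ.sup m₀, fun t => Finset.le_sup (Finset.mem_univ t)⟩
  have h1 : Ideal.span (Set.range fun i => (algebraMap S B (g i)) ^ M) = ⊤ := by
    have h := Ideal.span_pow_eq_top _ hB M
    rwa [← Set.range_comp] at h
  have h2 : (1 : B) ∈ Ideal.span (Set.range fun i => (algebraMap S B (g i)) ^ M) := by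
    rw [h1]; trivial
  obtain ⟨b, hb⟩ := (Ideal.mem_span_range_iff_exists_fun).1 h2
  refine ⟨∑ i, emap g (mulB (Q := Q) (b i)) n (g i ^ (M - m₀ i) • y₀ i), ?_⟩
  rw [map_sum]
  have h3 : ∀ i, d g Q n (emap g (mulB (Q := Q) (b i)) n (g i ^ (M - m₀ i) • y₀ i)) =
      emap g (mulB (Q := Q) (b i * (algebraMap S B (g i)) ^ M)) (n + 1) x := by
    intro i
    rw [← emap_d, map_smul, h₀, smul_smul, ← pow_add, Nat.sub_add_cancel (hM i)]
    have e : (mulB (Q := Q) (b i * (algebraMap S B (g i)) ^ M) : Q →ₗ[S] Q) =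
        (mulB (Q := Q) (b i)) ∘ₗ (g i ^ M • (LinearMap.id : Q →ₗ[S] Q)) := by
      ext q
      simp only [mulB, LinearMap.coe_restrictScalars, LinearMap.lsmul_apply, LinearMap.comp_apply,
        LinearMap.smul_apply, LinearMap.id_apply]
      rw [mul_smul, ← map_pow, algebraMap_smul]
    rw [e, emap_comp]
    have e2 : emap g (g i ^ M • (LinearMap.id : Q →ₗ[S] Q)) (n + 1) x = g i ^ M • x := by
      funext s
      rw [emap_apply]
      obtain ⟨c, t, hc⟩ := exists_eq_mk (x s)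
      rw [Pi.smul_apply, hc, lmap_mk, LocalizedModule.smul'_mk]
      rfl
    rw [LinearMap.comp_apply, e2]
  rw [Finset.sum_congr rfl fun i _ => h3 i]
  funext s
  rw [Finset.sum_apply]
  obtain ⟨c, t, hc⟩ := exists_eq_mk (x s)
  have h6 : ∀ i, emap g (mulB (S := S) (Q := Q) (b i * (algebraMap S B (g i)) ^ M)) (n + 1) x s =
      LocalizedModule.mk ((b i * (algebraMap S B (g i)) ^ M) • c) t := by
    intro i
    rw [emap_apply, hc, lmap_mk]
    rfl
  rw [Finset.sum_congr rfl fun i _ => h6 i, hc, ← mk_sum, ← Finset.sum_smul, hb, one_smul]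

/-- Injectivity if the `g i` generate the unit ideal of a ring `B` acting on `Q`. -/
theorem eq_zero_of_unit (hB : Ideal.span (Set.range fun i => algebraMap S B (g i)) = ⊤)
    (x : Q) (hx : ∀ i, ∃ m : ℕ, g i ^ m • x = 0) : x = 0 := by
  classical
  have := Fintype.ofFinite ι
  choose m₀ h₀ using hx
  obtain ⟨M, hM⟩ : ∃ M : ℕ, ∀ t, m₀ t ≤ M :=
    ⟨Finset.univ.sup m₀, fun t => Finset.le_sup (Finset.mem_univ t)⟩
  have h1 : Ideal.span (Set.range fun i => (algebraMap S B (g i)) ^ M) = ⊤ := by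
    have h := Ideal.span_pow_eq_top _ hB M
    rwa [← Set.range_comp] at h
  have h2 : (1 : B) ∈ Ideal.span (Set.range fun i => (algebraMap S B (g i)) ^ M) := by
    rw [h1]; trivial
  obtain ⟨b, hb⟩ := (Ideal.mem_span_range_iff_exists_fun).1 h2
  rw [← one_smul B x, ← hb, Finset.sum_smul]
  refine Finset.sum_eq_zero fun i _ => ?_
  rw [mul_smul, ← map_pow, algebraMap_smul, ← Nat.sub_add_cancel (hM i), pow_add, mul_smul, h₀,
    smul_zero, smul_zero]

end Unit

section Chase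

variable {S : Type*} [CommRing S] {ι : Type*} (g : ι → S)
  {C0 C1 C2 C3 : Type*} [AddCommGroup C0] [Module S C0] [AddCommGroup C1] [Module S C1]
  [AddCommGroup C2] [Module S C2] [AddCommGroup C3] [Module S C3]
  (d0 : C0 →ₗ[S] C1) (d1 : C1 →ₗ[S] C2) (d2 : C2 →ₗ[S] C3)

/-- exactness of the localized complex -/
theorem emap_exact_of_torsion (h : ∀ (i : ι) (x : C1), d1 x = 0 → ∃ (m : ℕ) (y : C0), d0 y = g i ^ m • x)
    (n : ℕ) (x : EC g C1 (n + 1)) (hx : emap g d1 (n + 1) x = 0) :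
    ∃ y : EC g C0 (n + 1), emap g d0 (n + 1) y = x := by
  have key : ∀ s : Fin (n + 1) → ι, ∃ y : LocalizedModule (P g s) C0, lmap _ d0 y = x s := by
    intro s
    have hs := congr_fun hx s
    rw [emap_apply] at hs
    obtain ⟨c, t, hc⟩ := exists_eq_mk (x s)
    rw [hc, lmap_mk] at hs
    obtain ⟨u, hu, h1⟩ := (mk_eq_zero_iff _ _).1 hs
    rw [← map_smul] at h1
    obtain ⟨m, y, hy⟩ := h (s 0) _ h1
    have hmem : g (s 0) ^ m ∈ P g s := Submonoid.pow_mem _ (mem_P g s 0) m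
    refine ⟨LocalizedModule.mk y (⟨g (s 0) ^ m, hmem⟩ * ⟨u, hu⟩ * t), ?_⟩
    rw [lmap_mk, hy, hc, LocalizedModule.mk_eq]
    refine ⟨1, ?_⟩
    simp only [one_smul, Submonoid.smul_def, Submonoid.coe_mul, smul_smul]
    congr 1
    ring
  choose y hy using key
  exact ⟨y, funext hy⟩

/-- THE CHASE. -/
theorem chase (h10 : ∀ x, d1 (d0 x) = 0)
    (hE0 : ∀ x : EC g C0 2, d g C0 2 x = 0 → ∃ y, d g C0 1 y = x)
    (hE1 : ∀ x : EC g C1 1, d g C1 1 x = 0 → ∃ y, d g C1 0 y = x)
    (hE2 : ∀ x : C2, (∀ i, ∃ m : ℕ, g i ^ m • x = 0) → x = 0)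
    (hN : ∀ x : EC g (LinearMap.ker d0) 3, d g _ 3 x = 0 → ∃ y, d g _ 2 y = x)
    (hT1 : ∀ (i : ι) (x : C1), d1 x = 0 → ∃ (m : ℕ) (y : C0), d0 y = g i ^ m • x)
    (hT2 : ∀ (i : ι) (x : C2), d2 x = 0 → ∃ (m : ℕ) (y : C1), d1 y = g i ^ m • x)
    (c : C2) (hc : d2 c = 0) : ∃ b : C1, d1 b = c := by
  -- `c` in the double complex
  have hc1 : emap g d2 1 (d g C2 0 (unit₀ g c)) = 0 := by
    rw [emap_d, unit₀_natural, hc, map_zero, map_zero]
  obtain ⟨b1, hb1⟩ := emap_exact_of_torsion g d1 d2 hT2 0 _ hc1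
  have hb2 : emap g d1 2 (d g C1 1 b1) = 0 := by
    rw [emap_d, hb1, d_d]
  obtain ⟨a2, ha2⟩ := emap_exact_of_torsion g d0 d1 hT1 1 _ hb2
  -- the Čech cocycle of invariants
  have ha3 : emap g d0 3 (d g C0 2 a2) = 0 := by
    rw [emap_d, ha2, d_d]
  have hex : Function.Exact (LinearMap.ker d0).subtype d0 := by
    intro y
    constructor
    · intro hy; exact ⟨⟨y, hy⟩, rfl⟩
    · rintro ⟨y, rfl⟩; exact y.2
  obtain ⟨n3, hn3⟩ := (emap_exact g (LinearMap.ker d0).subtype d0 hex 3 _).1 ha3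
  have hinj : ∀ n, Function.Injective (emap g (LinearMap.ker d0).subtype n) :=
    emap_injective g _ (Submodule.injective_subtype _)
  have hn4 : d g _ 3 n3 = 0 := by
    apply hinj
    rw [emap_d, hn3, d_d, map_zero]
  obtain ⟨n2, hn2⟩ := hN n3 hn4
  -- correct `a2`
  have ha4 : d g C0 2 (a2 - emap g (LinearMap.ker d0).subtype 2 n2) = 0 := by
    rw [map_sub, ← emap_d, hn2, hn3, sub_self]
  obtain ⟨a1, ha1⟩ := hE0 _ ha4
  have hb3 : d g C1 1 (b1 - emap g d0 1 a1) = 0 := by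
    rw [map_sub, ← emap_d, ha1, map_sub, ha2]
    have : emap g d0 2 (emap g (LinearMap.ker d0).subtype 2 n2) = 0 :=
      (emap_exact g (LinearMap.ker d0).subtype d0 hex 2 _).2 ⟨n2, rfl⟩
    rw [this, sub_zero, sub_self]
  obtain ⟨b0, hb0⟩ := hE1 _ hb3
  obtain ⟨b, rfl⟩ := (unit₀_bijective (g := g) (N := C1)).2 b0
  refine ⟨b, ?_⟩
  rw [← sub_eq_zero]
  apply hE2
  rw [← d_unit₀_eq_zero_iff, map_sub, map_sub, ← unit₀_natural, ← emap_d, hb0, map_sub, hb1]
  have : emap g d1 1 (emap g d0 1 a1) = 0 := by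
    rw [← LinearMap.comp_apply, ← emap_comp]
    have e : d1 ∘ₗ d0 = 0 := LinearMap.ext h10
    rw [e]
    funext s
    rw [emap_apply]
    obtain ⟨c, t, hc⟩ := exists_eq_mk (a1 s)
    rw [hc, lmap_mk, LinearMap.zero_apply, LocalizedModule.zero_mk]
    rfl
  rw [this, sub_zero, sub_self]

end Chase

end Groth.Agent.ResProp.EF.K711
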