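import Groth.Agent.ResProp.EF.K65.Out
import Groth.Agent.ResProp.EF.K711.Chase
import Groth.Agent.ResProp.EF.K348.ECThree
import Groth.Agent.Hoch.K915.DSq

/-!
# (CD2), the assembly

`S`-linearity of the Hochschild differentials and the chase; the final form takes as input a coinvariant
`(t+1) × t` matrix over the comodule algebra whose maximal minors generate the unit ideal and kill
(up to powers) the cohomology in degrees `1`, `2`.
-/

set_option autoImplicit false

universe u

open TensorProduct Groth.Agent.Pi1C.CechAll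

noncomputable section

namespace Groth.Agent.ResProp.EF.K711

section Lin

variable {k : Type u} [CommRing k] {A : Type u} [CommRing A] [Bialgebra k A]
  {S : Type u} [CommRing S]
  {P : Type u} [AddCommGroup P] [Module k P] [Module S P] [SMulCommClass k S P]
  {Q : Type u} [AddCommGroup Q] [Module k Q] [Module S Q] [SMulCommClass k S Q]

/-- `f` commutes with the action of `S` -/
def SLin (S : Type u) [CommRing S] {P : Type u} [AddCommGroup P] [Module k P] [Module S P]
    {Q : Type u} [AddCommGroup Q] [Module k Q] [Module S Q] (f : P →ₗ[k] Q) : Prop :=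
  ∀ (s : S) (x : P), f (s • x) = s • f x

theorem SLin.rTensor {f : P →ₗ[k] Q} (h : SLin S f) : SLin S (f.rTensor A) := by
  intro s x
  induction x using TensorProduct.induction_on with
  | zero => simp
  | add x y hx hy => rw [smul_add, map_add, hx, hy, map_add, smul_add]
  | tmul p a =>
    rw [TensorProduct.smul_tmul', LinearMap.rTensor_tmul, LinearMap.rTensor_tmul, h,
      TensorProduct.smul_tmul']

theorem sLin_tail : SLin S (Hoch.tail k A P) := by
  intro s x
  induction x using TensorProduct.induction_on with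
  | zero => simp
  | add x y hx hy => rw [smul_add, map_add, hx, hy, map_add, smul_add]
  | tmul p a =>
    rw [TensorProduct.smul_tmul', Hoch.tail_tmul, Hoch.tail_tmul]
    generalize (Coalgebra.comul (R := k) a - a ⊗ₜ[k] 1 - 1 ⊗ₜ[k] a : A ⊗[k] A) = w
    induction w using TensorProduct.induction_on with
    | zero => simp
    | add x y hx hy => rw [TensorProduct.tmul_add, map_add, hx, hy, TensorProduct.tmul_add, map_add, smul_add]
    | tmul b c =>
      rw [TensorProduct.assoc_symm_tmul, TensorProduct.assoc_symm_tmul, TensorProduct.smul_tmul',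
        TensorProduct.smul_tmul']

omit [SMulCommClass k S P] [SMulCommClass k S Q] in
theorem SLin.add {f g : P →ₗ[k] Q} (hf : SLin S f) (hg : SLin S g) : SLin S (f + g) := by
  intro s x
  rw [LinearMap.add_apply, hf, hg, LinearMap.add_apply, smul_add]

omit [SMulCommClass k S P] [SMulCommClass k S Q] in
theorem SLin.sub {f g : P →ₗ[k] Q} (hf : SLin S f) (hg : SLin S g) : SLin S (f - g) := by
  intro s x
  rw [LinearMap.sub_apply, hf, hg, LinearMap.sub_apply, smul_sub]

omit [SMulCommClass k S P] in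
theorem SLin.smul {f : P →ₗ[k] Q} (hf : SLin S f) (r : k) : SLin S (r • f) := by
  intro s x
  rw [LinearMap.smul_apply, hf, LinearMap.smul_apply, smul_comm]

/-- an `S`-linear map from a `k`-linear one -/
def SLin.lin {f : P →ₗ[k] Q} (h : SLin S f) : P →ₗ[S] Q where
  toFun := f
  map_add' := f.map_add
  map_smul' := h

end Lin

section Diff

variable {k : Type u} [CommRing k] {A : Type u} [CommRing A] [Bialgebra k A]
  {N : Type u} [AddCommGroup N] [Module k N] (c : HopfRep.Comod k A N)
  {S : Type u} [CommRing S] [Module S N] [SMulCommClass k S N]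

/-- `d⁰` -/
def e0 : N →ₗ[k] N ⊗[k] A := c.coact - (TensorProduct.mk k N A).flip 1

/-- `d¹` -/
def e1 : N ⊗[k] A →ₗ[k] (N ⊗[k] A) ⊗[k] A := (e0 c).rTensor A + ((-1 : k) ^ (0 + 1)) • Hoch.tail k A N

/-- `d²` -/
def e2 : (N ⊗[k] A) ⊗[k] A →ₗ[k] ((N ⊗[k] A) ⊗[k] A) ⊗[k] A :=
  (e1 c).rTensor A + ((-1 : k) ^ (1 + 1)) • Hoch.tail k A (N ⊗[k] A)

theorem d_zero_eq : @Hoch.d k _ A _ _ N _ _ c 0 = e0 c := rfl

theorem d_one_eq : @Hoch.d k _ A _ _ N _ _ c 1 = e1 c := rfl

theorem d_two_eq : @Hoch.d k _ A _ _ N _ _ c 2 = e2 c := rfl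

theorem sLin_e0 (hρ : ∀ (s : S) (n : N), c.coact (s • n) = s • c.coact n) : SLin S (e0 c) := by
  intro s n
  simp only [e0, LinearMap.sub_apply, LinearMap.flip_apply, TensorProduct.mk_apply, smul_sub, hρ]
  rw [TensorProduct.smul_tmul']

theorem sLin_e1 (hρ : ∀ (s : S) (n : N), c.coact (s • n) = s • c.coact n) : SLin S (e1 c) :=
  (sLin_e0 c hρ).rTensor.add (sLin_tail.smul _)

theorem sLin_e2 (hρ : ∀ (s : S) (n : N), c.coact (s • n) = s • c.coact n) :
    SLin S (P := (N ⊗[k] A) ⊗[k] A) (Q := ((N ⊗[k] A) ⊗[k] A) ⊗[k] A) (e2 c) :=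
  (sLin_e1 c hρ).rTensor.add (sLin_tail.smul _)

end Diff

section Main

variable {k : Type u} [CommRing k] {A : Type u} [CommRing A] [Bialgebra k A]
  {N : Type u} [AddCommGroup N] [Module k N] (c : HopfRep.Comod k A N)
  {S : Type u} [CommRing S] [Module S N] [SMulCommClass k S N]
  {B : Type u} [CommRing B] [Module B N] [SMulCommClass k B N] [Algebra S B] [IsScalarTower S B N]
  {ι : Type} [Finite ι] (g : ι → S)

omit [Module S N] [SMulCommClass k S N] in
theorem e1_e0 (x : N) : e1 c (e0 c x) = 0 :=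
  @K915.HochDSq.dd_apply k _ A _ _ N _ _ c 0 x

/-- `H² = 0` from torsion and the exactness of the extended Čech complexes in degree `3`. -/
theorem h2_zero (hρ : ∀ (s : S) (n : N), c.coact (s • n) = s • c.coact n)
    (hB : Ideal.span (Set.range fun i => algebraMap S B (g i)) = ⊤)
    (hN : ∀ (K : Type u) [AddCommGroup K] [Module S K] (x : EC g K 3), d g K 3 x = 0 →
      ∃ y : EC g K 2, d g K 2 y = x)
    (hT1 : ∀ (i : ι) (x : N ⊗[k] A), e1 c x = 0 → ∃ (m : ℕ) (y : N), e0 c y = g i ^ m • x)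
    (hT2 : ∀ (i : ι) (x : (N ⊗[k] A) ⊗[k] A), e2 c x = 0 →
      ∃ (m : ℕ) (y : N ⊗[k] A), e1 c y = g i ^ m • x)
    (z : (N ⊗[k] A) ⊗[k] A) (hz : e2 c z = 0) : ∃ y, e1 c y = z :=
  chase g (sLin_e0 c hρ).lin (sLin_e1 c hρ).lin
    (SLin.lin (P := (N ⊗[k] A) ⊗[k] A) (Q := ((N ⊗[k] A) ⊗[k] A) ⊗[k] A) (sLin_e2 c hρ)) (e1_e0 c)
    (fun x hx => exact_of_unit g (B := B) hB 1 x hx)
    (fun x hx => exact_of_unit g (B := B) hB 0 x hx)
    (fun x hx => eq_zero_of_unit g (B := B) hB x hx)
    (fun x hx => hN _ x hx) hT1 hT2 z hz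

end Main

end Groth.Agent.ResProp.EF.K711
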