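import Groth.Agent.ResProp.EF.K274.Red
import Groth.Agent.ResProp.EF.K374.StabProd
import Groth.Agent.ResProp.EF.K653.FreeGLn

/-!
# `RedModP` for `Stab × G'` and for products of `GL`s
-/

set_option autoImplicit false

universe u

open TensorProduct

noncomputable section

namespace Groth.Agent.ResProp.EF.K711

open Grp

variable (p : ℕ) (k : Type u) [CommRing k] [hk : IsLb p k]

theorem redP_GL (n : ℕ) : K274.RedP p (K653.GpGL n k).O := by
  letI := (K653.FreeGLn.polyTo n k).toRingHom.toAlgebra
  haveI := K653.FreeGLn.isLocalization_GLn n k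
  exact K274.RedP.of_mvPolynomial (A := CoordGrp.GLn n k) (K274.prime_of_isLb (p := p) (k := k)) _
    (Submonoid.powers (Matrix.det (Matrix.mvPolynomialX (Fin n) (Fin n) k)))

theorem redP_St (t : ℕ) : K274.RedP p (K374.St k t).O :=
  K274.RedP.of_mvPolynomial (A := K58.Fr (0 : Fin (t + 1)) (K374.e0v k t))
    (K274.prime_of_isLb (p := p) (k := k)) _
    (Submonoid.powers (K58.mat0 (0 : Fin (t + 1)) (K374.e0v k t)).det)

theorem redP_prod {G G' : Gp k} (h : K274.RedP p G.O) (h' : K274.RedP p G'.O) :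
    K274.RedP p (K749.prodGp G G').O :=
  K274.RedP.tensor hk.prime hk.res h h'

/-- `RedModP` for `H = Stab × G'` -/
theorem redModP_HH (t : ℕ) (G' : Gp k) (h' : K274.RedP p G'.O) : RedModP p (K374.HH k t G') :=
  K274.redModP_of_redP _ (redP_prod p k (redP_St p k t) h')

/-- `RedModP` for `H = Stab × (GL_a × GL_b)` -/
theorem redModP_HHGL (t a b : ℕ) :
    RedModP p (K374.HH k t (K749.prodGp (K653.GpGL a k) (K653.GpGL b k))) :=
  redModP_HH p k t _ (redP_prod p k (redP_GL p k a) (redP_GL p k b))

end Groth.Agent.ResProp.EF.K711
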