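import Groth.Agent.ResProp.EF.K711.Tors
import Groth.Agent.ResProp.EF.K711.Red
import Groth.Agent.ResProp.EF.K65.Final2
import Groth.Agent.ResProp.EF.K624.Final
import Groth.Agent.ResProp.EF.K41.PhiHH

/-!
# 1.4 and 1.5 for `H = Stab(e_0) × (GL_a × GL_b)`
-/

set_option autoImplicit false

universe u

open TensorProduct

noncomputable section

namespace Groth.Agent.ResProp.EF.K711

open Grp

theorem cd2_HH (p : ℕ) (k : Type u) [CommRing k] [hk : IsLb p k] (t : ℕ) (G' : Gp k) :
    K65.CD2 p (K374.GG k t G') (K374.HH k t G') (K41.phiHH k t G') :=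
  cd2_of_stabData _ p hk.prime (isMaximal_of_isLb p) t (K41.stabDataHH k t G')

theorem killModP_HH (p : ℕ) (k : Type u) [CommRing k] [hk : IsLb p k] (t : ℕ) (G' : Gp k)
    (hG : K749.Out p G') : KillModP p (K374.HH k t G') :=
  K65.killModP_of p _ _ (K41.phiHH k t G') (cd2_HH p k t G')
    (K749.outProd p k _ _ (K65.outGL p (t + 1)) (K749.outProd p k _ _ (K65.outGL p t) hG))

/-- **1.5 for `H = Stab(e_0) × (GL_a × GL_b)`**, no hypothesis -/
theorem kill_HH (p : ℕ) (k : Type u) [CommRing k] [hk : IsLb p k] (t a b : ℕ) :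
    Kill (K374.HH k t (K749.prodGp (K653.GpGL a k) (K653.GpGL b k))) :=
  K624.kill p _ (redModP_HHGL p k t a b)
    (killModP_HH p k t _ (K749.outProd p k _ _ (K65.outGL p a) (K65.outGL p b)))

end Groth.Agent.ResProp.EF.K711
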